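import Groth.Prelude.Def_Versch
import Groth.Prelude.Def_SGA3b
import Mathlib

set_option autoImplicit false

universe u

namespace Groth.Agent.VerschFLib

open TensorProduct WithConv

variable (p : ℕ) [Fact p.Prime] (R : Type u) [CommRing R] [CharP R p]
  (A : Type u) [CommRing A] [HopfAlgebra R A]

theorem toLinearMap_convPow (f : WithConv (A →ₐ[R] A)) :
    ∀ n : ℕ, toConv ((f ^ n).ofConv.toLinearMap) =
      (toConv f.ofConv.toLinearMap : WithConv (A →ₗ[R] A)) ^ n := by
  intro n
  induction n with
  | zero =>
    rw [pow_zero, pow_zero]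
    rfl
  | succ n ih =>
    rw [pow_succ, pow_succ, ← ih]
    apply WithConv.ext
    ext a
    show ((f ^ n * f).ofConv : A →ₐ[R] A) a = _
    rw [AlgHom.convMul_apply, LinearMap.convMul_apply]
    induction Coalgebra.comul (R := R) a using TensorProduct.induction_on with
    | zero => simp
    | tmul x y => simp
    | add s t hs ht => simp only [map_add, hs, ht]

variable [Coalgebra.IsCocomm R A] [Module.Finite R A] [Module.Projective R A] [CharP A p]

theorem relFrob_verschiebung_apply (v : A →+* FrobAlg.BaseChange p R A)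
    (hv : Versch.IsVerschiebung p R A v) (a : A) :
    FrobAlg.relFrob p R A (v a) = SGA3b.powConv R A p a := by
  classical
  rw [Versch.isVerschiebung_iff] at hv
  obtain ⟨n, f, g, -, -, hfg⟩ := Module.Finite.exists_comp_eq_id_of_projective R A
  let b : Fin n → A := fun i => f (Pi.single i 1)
  let x : Fin n → CartDual.D R A := fun i => toConv (LinearMap.proj i ∘ₗ g)
  have hbx : ∀ c : A, c = ∑ i, (x i c) • b i := by
    intro c
    conv_lhs => rw [← LinearMap.id_apply (R := R) c, ← hfg, LinearMap.comp_apply, pi_eq_sum_univ' (g c)]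
    rw [map_sum]
    simp only [map_smul]
    rfl
  -- forms into `A`
  let ι : CartDual.D R A → WithConv (A →ₗ[R] A) :=
    fun y => toConv ((Algebra.ofId R A).toLinearMap ∘ₗ y.ofConv)
  have hιmul : ∀ y z, ι (y * z) = ι y * ι z := fun y z =>
    (congrArg toConv (LinearMap.algHom_comp_convMul_distrib (Algebra.ofId R A) y z)).trans rfl
  have hι1 : ι 1 = 1 := by
    apply WithConv.ext; ext c; simp [ι, LinearMap.convOne_def]
  have hιpow : ∀ (y : CartDual.D R A) (m : ℕ), ι (y ^ m) = ι y ^ m := by
    intro y m
    induction m with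
    | zero => rw [pow_zero, pow_zero, hι1]
    | succ m ih => rw [pow_succ, pow_succ, hιmul, ih]
  have hid : (toConv (LinearMap.id (R := R) (M := A)) : WithConv (A →ₗ[R] A)) = ∑ i, b i • ι (x i) := by
    apply WithConv.ext
    refine LinearMap.ext fun c => ?_
    rw [WithConv.ofConv_sum, LinearMap.sum_apply]
    conv_lhs => rw [show (ofConv (toConv (LinearMap.id (R := R) (M := A)))) c = c from rfl, hbx c]
    refine Finset.sum_congr rfl fun i _ => ?_
    rw [Algebra.smul_def, mul_comm]
    rfl
  have hinj : Function.Injective (algebraMap A (WithConv (A →ₗ[R] A))) := by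
    intro s t h
    have h1 := congrArg (fun F : WithConv (A →ₗ[R] A) => F.ofConv 1) h
    simpa [LinearMap.convAlgebraMap_apply] using h1
  haveI : CharP (WithConv (A →ₗ[R] A)) p := charP_of_injective_algebraMap hinj p
  have hpow : SGA3b.powConv R A p a = ∑ i, b i ^ p * algebraMap R A ((x i ^ p) a) := by
    have h1 := toLinearMap_convPow R A (toConv (AlgHom.id R A)) p
    have h2 : (SGA3b.powConv R A p).toLinearMap a =
        ((toConv (LinearMap.id (R := R) (M := A)) : WithConv (A →ₗ[R] A)) ^ p).ofConv a :=
      congrArg (fun F : WithConv (A →ₗ[R] A) => F.ofConv a) h1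
    rw [hid, sum_pow_char p] at h2
    simp only [smul_pow, ← hιpow, WithConv.ofConv_sum, LinearMap.sum_apply] at h2
    exact h2
  have hva : v a = ∑ i, b i ⊗ₜ[R] FrobAlg.toTwist p R ((x i ^ p) a) := by
    refine Versch.evTw_injective p R A fun y => ?_
    rw [hv a y, map_sum]
    have hy : y = ∑ i, (y (b i)) • x i := by
      apply WithConv.ext
      refine LinearMap.ext fun c => ?_
      conv_lhs => rw [hbx c, map_sum]
      rw [WithConv.ofConv_sum, LinearMap.sum_apply]
      refine Finset.sum_congr rfl fun i _ => ?_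
      simp [CartDual.coe_apply, mul_comm]
    conv_lhs => rw [hy, sum_pow_char p]
    rw [CartDual.coe_apply, WithConv.ofConv_sum, LinearMap.sum_apply, map_sum]
    refine Finset.sum_congr rfl fun i _ => ?_
    rw [Versch.evTw_tmul', smul_pow, ← map_mul]
    simp [CartDual.coe_apply]
  rw [hpow, hva, map_sum]
  refine Finset.sum_congr rfl fun i _ => ?_
  simp [FrobAlg.relFrob, FrobAlg.frobHom, FrobAlg.inclHom]
  rfl

end Groth.Agent.VerschFLib
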